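import Cfsg.Agent.Lib.H17.SuzOrd.ColBStepsA
import Cfsg.Agent.Lib.H17.SuzOrd.ColBRows

set_option autoImplicit false
set_option maxRecDepth 100000

/-! # Bound for the relative index, SuzOrd ColB (generated) -/

namespace Cfsg.Agent.Lib.H17.SuzOrd.ColB

open Cfsg.Spor Cfsg.Agent.Lib.H17.CosetCert Cfsg.Agent.Lib.H17.CoxGlue Cfsg.Agent.Lib.H17.SuzGlue Cfsg.Agent.Lib.H17.SubChain Cfsg.Agent.Lib.H17.SuzOrd

theorem bound : Bound words 7 1 := by
  intro G' _ Q' _ _ γ' hinv q0 hOK hgen
  have h0 := inv_zero F 7 γ' q0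
  have h1 := checkSteps_sound F 7 16777216 γ' hinv q0 words hOK steps0 0 1 12 h0 chk0
  rw [len0] at h1
  have := card_le F 7 16777216 γ' hinv q0 38 12 h1 rows mask mask_ok mask_zero rows_ok hgen
  rw [rows_length] at this
  exact this

/-- a normal subgroup containing the additional relators is the whole group -/
theorem collapse (N : Subgroup G) [N.Normal] (h : ∀ v ∈ extraW, (v.map γo).prod ∈ N) : N = ⊤ := by
  have hgen : Subgroup.closure {g : G | ∃ x < 7, g = γo x} = ⊤ := K_top
  apply SubChain.normal_eq_top γo γo_mul_self 7 hgen N words bound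
  intro v hv
  obtain ⟨h1, h2⟩ := words_spec v hv
  refine ⟨h1, ?_⟩
  rcases h2 with h2 | h2
  · rw [rel_trivial v.1 h2]
    exact one_mem N
  · exact h v.1 h2

end Cfsg.Agent.Lib.H17.SuzOrd.ColB
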