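import Cfsg.Agent.Lib.H17.SuzOrd.ColBFacts

set_option autoImplicit false
set_option maxRecDepth 100000

/-! # Steps of the coset enumeration SuzOrd ColB, part 0 (generated) -/

namespace Cfsg.Agent.Lib.H17.SuzOrd.ColB

open Cfsg.Spor Cfsg.Agent.Lib.H17.CosetCert Cfsg.Agent.Lib.H17.CoxGlue Cfsg.Agent.Lib.H17.SuzGlue Cfsg.Agent.Lib.H17.SubChain Cfsg.Agent.Lib.H17.SuzOrd

/-- steps 0 … -/
def steps0 : List ℕ := [0x0, 0x0, 0x0, 0x0, 0x0, 0x0, 0x0, 0x0, 0x100000700000000000100000200000000001b, 0x100000800000700000000000100000800000700000000000100000800000000000a000008000001, 0x8000009000000000000000003000001000030, 0x0, 0x200000b000000000001000002000000000002, 0x200000b00000a000001000001000003000000000021, 0x200000d00000b00000a00000100000200000d000000000007000009000007, 0xc00000e000000000000000003000001000030, 0x0, 0x300001000000a000001000001000003000000000008, 0x300001000000f000002000001000003000000000026, 0xf00000200000300001200001000000f000002000003000012000003000000000009000002000001000016, 0x10000013000003000000000003000000000033, 0x500000500001400000a000001000001000004000000000024, 0x600000600001400000a000001000001000004000000000025, 0x600001600000600001400000a00000100000600001600000000000800000700000b, 0x5000005000017000006000014000000000001000005000000000017, 0x1700000600000500001500001800000500001400000a00000100001700000600000500001500001800000500001400000a00000100001700000600000500001400000a000001000014000004000000000019,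 0x0, 0x400001a00000300000100000200000000002a, 0x400001b00001a00000300000400001b00000000000600000b000010, 0x1b00001c000003000000000003000004000033, 0x400001d00000300001400000f00000200000300001200001300001100001300000300001400000f00000200000300001200001300001100001300000300001400000f00000200000300001200001300001100001300000300001400000f00000200000300001200001300001100001300000300001400000f00000200000300001200001300001100001300001d00000400000300001200001300000300001400000f00000200001400000a00000100000300001200001300000300001400000f00000200001400000a00000100000300001200001300000300001400000f00000200001400000a00000100000300001200001300000300001400000f00000200001400000a00000100000300001200001300000300001400000f00000200001400000a00000100000400001d00000300001200001300000300001400000f00000200001400000a00000100000300001200001300000300001400000f00000200001400000a00000100000300001200001300000300001400000f00000200001400000a00000100000300001200001300000300001400000f00000200001400000a00000100000300001200001300000300001400000f00000200001400000a00000100006500003200000000001a, 0x14000000000000000002000000000030, 0x1400000a000001000000000003000000000031, 0x1400000f000002000000000003000000000032, 0x1e000003000000000002000000000033, 0x1e00001d000004000000000003000000000034, 0x19000005000000000002000000000035, 0x17000006000000000002000000000036]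

theorem chk0 : checkSteps F 7 16777216 words steps0 0 1 = some 12 := by
  decide +kernel

theorem len0 : steps0.length = 38 := by
  decide +kernel

end Cfsg.Agent.Lib.H17.SuzOrd.ColB
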