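import Cfsg.Agent.Lib.H17.SuzOrd.Order
import Cfsg.Agent.Lib.H17.SuzU43b.Orbits
import Cfsg.Agent.Lib.H17.Masks
import Cfsg.Agent.Lib.H17.SuzOrd.ColACert
import Cfsg.Agent.Lib.H17.SuzOrd.ColBCert

set_option autoImplicit false
set_option maxRecDepth 100000

/-! # Simplicity of the presented group Suz (Iwasawa criterion on 22880 points; generated) -/

namespace Cfsg.Agent.Lib.H17.SuzSimple

open Cfsg.Spor Cfsg.Agent.Lib.H17.CosetCert Cfsg.Agent.Lib.H17.CoxGlue
  Cfsg.Agent.Lib.H17.SuzGlue Cfsg.Agent.Lib.H17.Iwa Cfsg.Agent.Lib.H17.Masks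
  Cfsg.Agent.Lib.H17.SuzU43b MulAction
open scoped Pointwise commutatorElement

/-- the action on the points -/
noncomputable local instance actInst : MulAction G (Fin 22880) := MulAction.compHom (Fin 22880) φ

theorem smul_eq (g : G) (i : Fin 22880) : g • i = φ g i := rfl

instance pretrans : IsPretransitive G (Fin 22880) := (isPretransitive_iff_base z).mpr φ_trans

/-! ## Primitivity -/

theorem orb0 : {i : Fin 22880 | ∃ h ∈ Subgroup.closure S', φ h ⟨7122, by decide⟩ = i} =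
    {i : Fin 22880 | tb omask0 i = true} :=
  orbit_eq_mask' 15 32768 22880 φ S' omask0 hr ⟨7122, by decide⟩ sgT good_sgT S'_words words_S'
    obase0 oclosed0 oconn0

theorem orb1 : {i : Fin 22880 | ∃ h ∈ Subgroup.closure S', φ h ⟨1, by decide⟩ = i} =
    {i : Fin 22880 | tb omask1 i = true} :=
  orbit_eq_mask' 15 32768 22880 φ S' omask1 hr ⟨1, by decide⟩ sgT good_sgT S'_words words_S'
    obase1 oclosed1 oconn1

theorem orb2 : {i : Fin 22880 | ∃ h ∈ Subgroup.closure S', φ h ⟨10, by decide⟩ = i} =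
    {i : Fin 22880 | tb omask2 i = true} :=
  orbit_eq_mask' 15 32768 22880 φ S' omask2 hr ⟨10, by decide⟩ sgT good_sgT S'_words words_S'
    obase2 oclosed2 oconn2

theorem orb3 : {i : Fin 22880 | ∃ h ∈ Subgroup.closure S', φ h ⟨67, by decide⟩ = i} =
    {i : Fin 22880 | tb omask3 i = true} :=
  orbit_eq_mask' 15 32768 22880 φ S' omask3 hr ⟨67, by decide⟩ sgT good_sgT S'_words words_S'
    obase3 oclosed3 oconn3

theorem trans_of_orb (mask : ℕ) (p : Fin 22880)
    (h : {i : Fin 22880 | ∃ h ∈ Subgroup.closure S', φ h p = i} = {i : Fin 22880 | tb mask i = true})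
    (x y : Fin 22880) (hx : tb mask x = true) (hy : tb mask y = true) :
    ∃ g : G, g • z = z ∧ g • x = y := by
  have hx' : x ∈ {i : Fin 22880 | ∃ h ∈ Subgroup.closure S', φ h p = i} := by rw [h]; exact hx
  have hy' : y ∈ {i : Fin 22880 | ∃ h ∈ Subgroup.closure S', φ h p = i} := by rw [h]; exact hy
  obtain ⟨h1, hh1, rfl⟩ := hx'
  obtain ⟨h2, hh2, rfl⟩ := hy'
  refine ⟨h2 * h1⁻¹, ?_, ?_⟩
  · have : h2 * h1⁻¹ ∈ H := by
      rw [H_eq]
      exact mul_mem hh2 (inv_mem hh1)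
    exact φ_H _ this
  · rw [smul_eq, map_mul, map_inv, Equiv.Perm.mul_apply]
    simp

/-- the orbit masks -/
def masks : Fin 4 → ℕ := ![omask0, omask1, omask2, omask3]

theorem cover_count : countBits (Nat.lor (Nat.lor (Nat.lor (Nat.lor (omask0) omask1) omask2) omask3) 1) 22880 0 = 22880 := by
  decide +kernel

theorem disj0_1 : Nat.land omask0 omask1 = 0 := by
  decide +kernel

theorem disj0_2 : Nat.land omask0 omask2 = 0 := by
  decide +kernel

theorem disj0_3 : Nat.land omask0 omask3 = 0 := by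
  decide +kernel

theorem disj1_0 : Nat.land omask1 omask0 = 0 := by
  decide +kernel

theorem disj1_2 : Nat.land omask1 omask2 = 0 := by
  decide +kernel

theorem disj1_3 : Nat.land omask1 omask3 = 0 := by
  decide +kernel

theorem disj2_0 : Nat.land omask2 omask0 = 0 := by
  decide +kernel

theorem disj2_1 : Nat.land omask2 omask1 = 0 := by
  decide +kernel

theorem disj2_3 : Nat.land omask2 omask3 = 0 := by
  decide +kernel

theorem disj3_0 : Nat.land omask3 omask0 = 0 := by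
  decide +kernel

theorem disj3_1 : Nat.land omask3 omask1 = 0 := by
  decide +kernel

theorem disj3_2 : Nat.land omask3 omask2 = 0 := by
  decide +kernel

theorem zbit0 : tb omask0 0 = false := by
  decide +kernel

theorem zbit1 : tb omask1 0 = false := by
  decide +kernel

theorem zbit2 : tb omask2 0 = false := by
  decide +kernel

theorem zbit3 : tb omask3 0 = false := by
  decide +kernel

instance prim : IsPreprimitive G (Fin 22880) := by
  apply prim_of_masks z masks ![280, 486, 8505, 13608]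
  · intro j
    fin_cases j
    · exact ocount0
    · exact ocount1
    · exact ocount2
    · exact ocount3
  · intro i hi
    have h := all_of_count _ _ cover_count i i.2
    rw [tb_lor, tb_lor, tb_lor, tb_lor, tb_one] at h
    have hi0 : (i : ℕ) ≠ 0 := fun h0 => hi (Fin.ext h0)
    simp only [hi0, decide_false, Bool.or_false, Bool.or_eq_true] at h
    rcases h with ((h | h) | h) | h
    · exact ⟨0, h⟩
    · exact ⟨1, h⟩
    · exact ⟨2, h⟩
    · exact ⟨3, h⟩
  · intro i j hij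
    fin_cases i <;> fin_cases j
    · exact absurd rfl hij
    · exact disj0_1
    · exact disj0_2
    · exact disj0_3
    · exact disj1_0
    · exact absurd rfl hij
    · exact disj1_2
    · exact disj1_3
    · exact disj2_0
    · exact disj2_1
    · exact absurd rfl hij
    · exact disj2_3
    · exact disj3_0
    · exact disj3_1
    · exact disj3_2
    · exact absurd rfl hij
  · intro j
    fin_cases j
    · exact zbit0
    · exact zbit1
    · exact zbit2
    · exact zbit3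
  · intro j x y hx hy
    fin_cases j
    · exact trans_of_orb omask0 _ orb0 x y hx hy
    · exact trans_of_orb omask1 _ orb1 x y hx hy
    · exact trans_of_orb omask2 _ orb2 x y hx hy
    · exact trans_of_orb omask3 _ orb3 x y hx hy
  · decide

/-! ## The Iwasawa structure -/

/-- the word of a generator of the cyclic normal subgroup of the point stabiliser -/
def aW : List ℕ := [1, 2, 3, 2, 3, 1, 2, 3, 2, 3, 1, 2, 3, 2, 3, 1, 2, 3, 2, 3, 1, 2, 3, 2, 3]

/-- the generator of the cyclic normal subgroup of the point stabiliser -/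
noncomputable abbrev ael : G := Cfsg.Agent.Lib.H17.SuzOrd.e aW

/-- the cyclic normal subgroup of the point stabiliser -/
noncomputable abbrev A : Subgroup G := Subgroup.zpowers ael

theorem conj_smul_zpowers (k a : G) :
    MulAut.conj k • Subgroup.zpowers a = Subgroup.zpowers (k * a * k⁻¹) := by
  have h := MonoidHom.map_zpowers (MulAut.conj k).toMonoidHom a
  rw [show (MulAut.conj k).toMonoidHom a = k * a * k⁻¹ from rfl] at h
  rw [← h]
  rfl

theorem cj0 : Cfsg.Agent.Lib.H17.SuzOrd.e [0] * ael * (Cfsg.Agent.Lib.H17.SuzOrd.e [0])⁻¹ = ael := by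
  rw [← Cfsg.Agent.Lib.H17.SuzOrd.e_reverse, ← Cfsg.Agent.Lib.H17.SuzOrd.e_append, ← Cfsg.Agent.Lib.H17.SuzOrd.e_append]
  apply Cfsg.Agent.Lib.H17.SuzOrd.e_eq_e
  decide +kernel

theorem cj1 : Cfsg.Agent.Lib.H17.SuzOrd.e [1] * ael * (Cfsg.Agent.Lib.H17.SuzOrd.e [1])⁻¹ = ael := by
  rw [← Cfsg.Agent.Lib.H17.SuzOrd.e_reverse, ← Cfsg.Agent.Lib.H17.SuzOrd.e_append, ← Cfsg.Agent.Lib.H17.SuzOrd.e_append]
  apply Cfsg.Agent.Lib.H17.SuzOrd.e_eq_e
  decide +kernel

theorem cj2 : Cfsg.Agent.Lib.H17.SuzOrd.e [2] * ael * (Cfsg.Agent.Lib.H17.SuzOrd.e [2])⁻¹ = ael := by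
  rw [← Cfsg.Agent.Lib.H17.SuzOrd.e_reverse, ← Cfsg.Agent.Lib.H17.SuzOrd.e_append, ← Cfsg.Agent.Lib.H17.SuzOrd.e_append]
  apply Cfsg.Agent.Lib.H17.SuzOrd.e_eq_e
  decide +kernel

theorem cj3 : Cfsg.Agent.Lib.H17.SuzOrd.e [3] * ael * (Cfsg.Agent.Lib.H17.SuzOrd.e [3])⁻¹ = ael⁻¹ := by
  rw [← Cfsg.Agent.Lib.H17.SuzOrd.e_reverse, ← Cfsg.Agent.Lib.H17.SuzOrd.e_reverse, ← Cfsg.Agent.Lib.H17.SuzOrd.e_append, ← Cfsg.Agent.Lib.H17.SuzOrd.e_append]
  apply Cfsg.Agent.Lib.H17.SuzOrd.e_eq_e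
  decide +kernel

theorem cj4 : Cfsg.Agent.Lib.H17.SuzOrd.e [5] * ael * (Cfsg.Agent.Lib.H17.SuzOrd.e [5])⁻¹ = ael := by
  rw [← Cfsg.Agent.Lib.H17.SuzOrd.e_reverse, ← Cfsg.Agent.Lib.H17.SuzOrd.e_append, ← Cfsg.Agent.Lib.H17.SuzOrd.e_append]
  apply Cfsg.Agent.Lib.H17.SuzOrd.e_eq_e
  decide +kernel

theorem cj5 : Cfsg.Agent.Lib.H17.SuzOrd.e [6] * ael * (Cfsg.Agent.Lib.H17.SuzOrd.e [6])⁻¹ = ael := by
  rw [← Cfsg.Agent.Lib.H17.SuzOrd.e_reverse, ← Cfsg.Agent.Lib.H17.SuzOrd.e_append, ← Cfsg.Agent.Lib.H17.SuzOrd.e_append]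
  apply Cfsg.Agent.Lib.H17.SuzOrd.e_eq_e
  decide +kernel

theorem norm_S' : ∀ s ∈ S', MulAut.conj s • A = A := by
  rintro _ ⟨s, hs, rfl⟩
  simp only [S, Set.mem_insert_iff, Set.mem_singleton_iff] at hs
  rcases hs with rfl | rfl | rfl | rfl | rfl | rfl
  · have h := cj0
    have he : Cfsg.Agent.Lib.H17.SuzOrd.e [0] = PresentedGroup.mk rels (FreeGroup.mk sgL0) := by
      rw [mk_mk]; rfl
    rw [he, ← sg0_eq] at h
    rw [conj_smul_zpowers, h]
  · have h := cj1
    have he : Cfsg.Agent.Lib.H17.SuzOrd.e [1] = PresentedGroup.mk rels (FreeGroup.mk sgL1) := by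
      rw [mk_mk]; rfl
    rw [he, ← sg1_eq] at h
    rw [conj_smul_zpowers, h]
  · have h := cj2
    have he : Cfsg.Agent.Lib.H17.SuzOrd.e [2] = PresentedGroup.mk rels (FreeGroup.mk sgL2) := by
      rw [mk_mk]; rfl
    rw [he, ← sg2_eq] at h
    rw [conj_smul_zpowers, h]
  · have h := cj3
    have he : Cfsg.Agent.Lib.H17.SuzOrd.e [3] = PresentedGroup.mk rels (FreeGroup.mk sgL3) := by
      rw [mk_mk]; rfl
    rw [he, ← sg3_eq] at h
    rw [conj_smul_zpowers, h, Subgroup.zpowers_inv]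
  · have h := cj4
    have he : Cfsg.Agent.Lib.H17.SuzOrd.e [5] = PresentedGroup.mk rels (FreeGroup.mk sgL4) := by
      rw [mk_mk]; rfl
    rw [he, ← sg4_eq] at h
    rw [conj_smul_zpowers, h]
  · have h := cj5
    have he : Cfsg.Agent.Lib.H17.SuzOrd.e [6] = PresentedGroup.mk rels (FreeGroup.mk sgL5) := by
      rw [mk_mk]; rfl
    rw [he, ← sg5_eq] at h
    rw [conj_smul_zpowers, h]

theorem norm_closure : ∀ k ∈ Subgroup.closure S', MulAut.conj k • A = A := by
  intro k hkH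
  induction hkH using Subgroup.closure_induction with
  | mem s hs => exact norm_S' s hs
  | one => rw [map_one, one_smul]
  | mul a b _ _ iha ihb => rw [map_mul, mul_smul, ihb, iha]
  | inv a _ iha => rw [map_inv, inv_smul_eq_iff, iha]

theorem norm_stab : ∀ k : G, k • z = z → MulAut.conj k • A = A := by
  intro k hk
  have hkH : k ∈ H := index_and_stab.2 k hk
  rw [H_eq] at hkH
  exact norm_closure k hkH

theorem γo_eq : ∀ x < 7, Cfsg.Agent.Lib.H17.SuzOrd.γo x = PresentedGroup.of (gen x) := by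
  intro x hx
  interval_cases x <;> rfl

theorem prod_γo (L : List ℕ) (h : ∀ x ∈ L, x < 7) : (L.map Cfsg.Agent.Lib.H17.SuzOrd.γo).prod = Cfsg.Agent.Lib.H17.SuzOrd.e L := by
  unfold Cfsg.Agent.Lib.H17.SuzOrd.e
  congr 1
  apply List.map_congr_left
  intro x hx
  exact γo_eq x (h x hx)

theorem normalClosure_A : Subgroup.normalClosure (A : Set G) = ⊤ := by
  apply Cfsg.Agent.Lib.H17.SuzOrd.ColA.collapse
  intro v hv
  have hv' : v = aW := by
    simpa [Cfsg.Agent.Lib.H17.SuzOrd.ColA.extraW, aW] using hv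
  subst hv'
  rw [prod_γo aW (by decide)]
  exact Subgroup.subset_normalClosure (Subgroup.mem_zpowers ael)

/-! ## Perfectness and simplicity -/

theorem perfect : commutator G = ⊤ := by
  apply Cfsg.Agent.Lib.H17.SuzOrd.ColB.collapse
  intro v hv
  have h4 : ∀ v ∈ Cfsg.Agent.Lib.H17.SuzOrd.ColB.extraW, v = [v.getD 0 0, v.getD 1 0, v.getD 0 0, v.getD 1 0] := by decide
  have h5 := h4 v hv
  generalize v.getD 0 0 = x at h5
  generalize v.getD 1 0 = y at h5
  subst h5
  simp only [List.map_cons, List.map_nil, List.prod_cons, List.prod_nil, mul_one]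
  have hx : (Cfsg.Agent.Lib.H17.SuzOrd.γo x)⁻¹ = Cfsg.Agent.Lib.H17.SuzOrd.γo x := inv_eq_of_mul_eq_one_left (Cfsg.Agent.Lib.H17.SuzOrd.γo_mul_self x)
  have hy : (Cfsg.Agent.Lib.H17.SuzOrd.γo y)⁻¹ = Cfsg.Agent.Lib.H17.SuzOrd.γo y := inv_eq_of_mul_eq_one_left (Cfsg.Agent.Lib.H17.SuzOrd.γo_mul_self y)
  have hc : Cfsg.Agent.Lib.H17.SuzOrd.γo x * (Cfsg.Agent.Lib.H17.SuzOrd.γo y * (Cfsg.Agent.Lib.H17.SuzOrd.γo x * Cfsg.Agent.Lib.H17.SuzOrd.γo y)) = ⁅Cfsg.Agent.Lib.H17.SuzOrd.γo x, Cfsg.Agent.Lib.H17.SuzOrd.γo y⁆ := by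
    rw [commutatorElement_def, hx, hy]
    simp only [mul_assoc]
  rw [hc, commutator_def]
  exact Subgroup.commutator_mem_commutator (Subgroup.mem_top _) (Subgroup.mem_top _)

theorem simple : IsSimpleGroup G := by
  have := Cfsg.Agent.Lib.H17.SuzOrd.finite_G
  have : Nontrivial G := by
    rw [← Finite.one_lt_card_iff_nontrivial, Cfsg.Agent.Lib.H17.SuzOrd.card_eq]
    norm_num
  exact IwasawaStructure.isSimpleGroup perfect
    (iwasawaOfNormal (X := Fin 22880) z A inferInstance norm_stab normalClosure_A)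
    ⟨fun {g h} heq => Cfsg.Agent.Lib.H17.SuzOrd.φ_injective (Equiv.ext heq)⟩

end Cfsg.Agent.Lib.H17.SuzSimple
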