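import Cfsg.Agent.Lib.H17.SuzOrd.Lv1Cert
import Cfsg.Agent.Lib.H17.SuzOrd.Lv2Cert
import Cfsg.Agent.Lib.H17.SuzOrd.Lv4Cert
import Cfsg.Agent.Lib.H17.SuzOrd.Lv5Cert
import Cfsg.Agent.Lib.H17.SuzOrd.Lv6Cert
import Cfsg.Agent.Lib.H17.SuzG24.Lower

set_option autoImplicit false
set_option maxRecDepth 100000

/-! # Upper bound for the order of Suz (generated) -/

namespace Cfsg.Agent.Lib.H17.SuzOrd

open Cfsg.Spor Cfsg.Agent.Lib.H17.CosetCert Cfsg.Agent.Lib.H17.CoxGlue Cfsg.Agent.Lib.H17.SuzGlue Cfsg.Agent.Lib.H17.SubChain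

theorem Ktop_eq : K γo 6 = Cfsg.Agent.Lib.H17.SuzG24.H := by
  unfold K
  rw [show Cfsg.Agent.Lib.H17.SuzG24.H = Subgroup.closure (PresentedGroup.mk rels '' Cfsg.Agent.Lib.H17.SuzG24.S) from MonoidHom.map_closure _ _]
  congr 1
  ext g
  simp only [Set.mem_setOf_eq, Set.mem_image, Cfsg.Agent.Lib.H17.SuzG24.S, Set.mem_insert_iff, Set.mem_singleton_iff]
  constructor
  · rintro ⟨x, hx, rfl⟩
    interval_cases x
    · exact ⟨Cfsg.Spor.Suz.a, by simp, rfl⟩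
    · exact ⟨Cfsg.Spor.Suz.b, by simp, rfl⟩
    · exact ⟨Cfsg.Spor.Suz.c, by simp, rfl⟩
    · exact ⟨Cfsg.Spor.Suz.d, by simp, rfl⟩
    · exact ⟨Cfsg.Spor.Suz.e, by simp, rfl⟩
    · exact ⟨Cfsg.Spor.Suz.f, by simp, rfl⟩
  · rintro ⟨s, hs, rfl⟩
    rcases hs with rfl | rfl | rfl | rfl | rfl | rfl
    · exact ⟨0, by norm_num, rfl⟩
    · exact ⟨1, by norm_num, rfl⟩
    · exact ⟨2, by norm_num, rfl⟩
    · exact ⟨3, by norm_num, rfl⟩
    · exact ⟨4, by norm_num, rfl⟩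
    · exact ⟨5, by norm_num, rfl⟩

/-- the upper bound for the order -/
theorem card_le : 0 < Nat.card G ∧ Nat.card G ≤ 448345497600 := by
  have c0 := card_zero γo
  have c1 := card_step γo (by norm_num : 0 ≤ 1) c0 Lv1.level
  have c2 := card_step γo (by norm_num : 1 ≤ 2) c1 Lv2.level
  have c4 := card_step γo (by norm_num : 2 ≤ 4) c2 Lv4.level
  have c5 := card_step γo (by norm_num : 4 ≤ 5) c4 Lv5.level
  have c6 := card_step γo (by norm_num : 5 ≤ 6) c5 Lv6.level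
  have htop : (K γo 6).relIndex (K γo 7) = 1782 := by
    rw [K_top, Subgroup.relIndex_top_right, Ktop_eq]
    exact Cfsg.Agent.Lib.H17.SuzG24.index_eq
  have c7 := card_step_eq γo (by norm_num : 6 ≤ 7) c6 htop (by norm_num)
  rw [K_top, Subgroup.card_top] at c7
  refine ⟨c7.1, le_trans c7.2 (by norm_num)⟩

end Cfsg.Agent.Lib.H17.SuzOrd
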